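import Groth.Agent.S1227
import Mathlib.Algebra.Module.FinitePresentation
import Mathlib.LinearAlgebra.TensorProduct.Quotient

/-!
# Flattening of a surjection out of a module projective over the base
-/

universe u

open TensorProduct

namespace Groth.Agent.H24.Flattening

theorem exists_fg_le_mem_smul {A N : Type u} [CommRing A] [AddCommGroup N] [Module A N] {I : Ideal A}
    {x : N} (hx : x ∈ I • (⊤ : Submodule A N)) :
    ∃ J : Ideal A, J.FG ∧ J ≤ I ∧ x ∈ J • (⊤ : Submodule A N) := by
  refine Submodule.smul_induction_on hx (fun a ha y _ => ?_) fun y z hy hz => ?_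
  · exact ⟨Ideal.span {a}, ⟨{a}, by simp⟩, (Ideal.span_singleton_le_iff_mem _).2 ha,
      Submodule.smul_mem_smul (Ideal.mem_span_singleton_self a) Submodule.mem_top⟩
  · obtain ⟨J, hJ, hJI, hyJ⟩ := hy
    obtain ⟨J', hJ', hJI', hzJ⟩ := hz
    exact ⟨J ⊔ J', Submodule.FG.sup hJ hJ', sup_le hJI hJI',
      add_mem (Submodule.smul_mono le_sup_left le_rfl hyJ) (Submodule.smul_mono le_sup_right le_rfl hzJ)⟩

theorem mem_smul_top_of_one_tmul_eq_zero {A N : Type u} [CommRing A] [AddCommGroup N] [Module A N]
    (J : Ideal A) {x : N} : ((1 : A ⧸ J) ⊗ₜ[A] x = 0) ↔ x ∈ J • (⊤ : Submodule A N) := by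
  constructor
  · intro h
    have := congrArg (TensorProduct.quotTensorEquivQuotSMul N J) h
    rwa [map_zero, show (1 : A ⧸ J) = Ideal.Quotient.mk J 1 from rfl,
      TensorProduct.quotTensorEquivQuotSMul_mk_tmul, one_smul, Submodule.Quotient.mk_eq_zero] at this
  · intro h
    refine Submodule.smul_induction_on h (fun a ha y _ => ?_) fun y z hy hz => by
      rw [TensorProduct.tmul_add, hy, hz, add_zero]
    rw [TensorProduct.tmul_smul, TensorProduct.smul_tmul', Algebra.smul_def, mul_one,
      Ideal.Quotient.algebraMap_eq, Ideal.Quotient.eq_zero_iff_mem.2 ha, TensorProduct.zero_tmul]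

/-- Flattening of a surjection out of a module projective over the base. -/
theorem result_of_projective {A B : Type u} [CommRing A] [CommRing B] [Algebra A B]
    (N : Type u) [AddCommGroup N] [Module B N] [Module A N] [IsScalarTower A B N]
    [Module.Finite B N] [Module.Projective A N]
    (N' : Type u) [AddCommGroup N'] [Module B N'] [Module A N'] [IsScalarTower A B N'] (u : N →ₗ[B] N')
    (hu : Function.Surjective u) :
    ∃ I : Ideal A, (∀ (A' : Type u) [CommRing A'] [Algebra A A'],
        Function.Bijective ((u.restrictScalars A).baseChange A') ↔ I.map (algebraMap A A') = ⊥) ∧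
      (Module.FinitePresentation B N' → I.FG) := by
  obtain ⟨I, hI⟩ := Groth.Agent.S1227.result (u.restrictScalars A) hu
  refine ⟨I, fun A' => hI A', fun hfp => ?_⟩
  classical
  obtain ⟨s, hs⟩ := Module.FinitePresentation.fg_ker u hu
  have hmem : ∀ x ∈ s, x ∈ I • (⊤ : Submodule A N) := by
    intro x hx
    rw [← mem_smul_top_of_one_tmul_eq_zero]
    have hinj := ((hI (A ⧸ I)).2 (by rw [Ideal.Quotient.algebraMap_eq, Ideal.map_quotient_self])).1
    apply hinj
    have hx0 : u x = 0 := by
      have : x ∈ LinearMap.ker u := hs ▸ Submodule.subset_span hx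
      exact this
    rw [map_zero, LinearMap.baseChange_tmul, LinearMap.restrictScalars_apply, hx0,
      TensorProduct.tmul_zero]
  choose J hJfg hJI hxJ using fun x : {x // x ∈ s} => exists_fg_le_mem_smul (hmem x.1 x.2)
  let I₀ : Ideal A := Finset.univ.sup J
  have hfg : I₀.FG := Submodule.fg_finset_sup _ _ fun x _ => hJfg x
  have hle : I₀ ≤ I := Finset.sup_le fun x _ => hJI x
  have hker : ∀ y, u y = 0 → (1 : A ⧸ I₀) ⊗ₜ[A] y = 0 := by
    intro y hy
    rw [mem_smul_top_of_one_tmul_eq_zero]
    have hy' : y ∈ Submodule.span B (s : Set N) := hs.symm ▸ hy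
    clear hy
    induction hy' using Submodule.span_induction with
    | mem z hz => exact Submodule.smul_mono (Finset.le_sup (Finset.mem_univ (⟨z, hz⟩ : {x // x ∈ s}))) le_rfl (hxJ ⟨z, hz⟩)
    | zero => exact zero_mem _
    | add a b _ _ ha hb => exact add_mem ha hb
    | smul c a _ ha =>
      refine Submodule.smul_induction_on ha (fun r hr z _ => ?_) fun z w hz hw => ?_
      · rw [smul_comm]
        exact Submodule.smul_mem_smul hr Submodule.mem_top
      · rw [smul_add]
        exact add_mem hz hw
  have hbij : Function.Bijective ((u.restrictScalars A).baseChange (A ⧸ I₀)) := by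
    refine ⟨?_, ?_⟩
    · rw [injective_iff_map_eq_zero]
      intro z hz
      rw [LinearMap.baseChange_eq_ltensor] at hz
      obtain ⟨y, rfl⟩ := ((lTensor_exact (M := ↥(LinearMap.ker (u.restrictScalars A))) (A ⧸ I₀)
        (LinearMap.exact_subtype_ker_map (u.restrictScalars A)) hu) z).1 hz
      clear hz
      induction y using TensorProduct.induction_on with
      | zero => exact map_zero _
      | add a b ha hb => rw [map_add, ha, hb, add_zero]
      | tmul b k =>
        rw [LinearMap.lTensor_tmul, Submodule.coe_subtype, ← mul_one b, ← smul_eq_mul,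
          ← TensorProduct.smul_tmul', hker k k.2, smul_zero]
    · rw [LinearMap.baseChange_eq_ltensor]
      exact LinearMap.lTensor_surjective _ hu
  have hIle : I ≤ I₀ := fun a ha => by
    rw [← Ideal.Quotient.eq_zero_iff_mem]
    exact (Ideal.map_eq_bot_iff_le_ker _).1 ((hI (A ⧸ I₀)).1 hbij) ha
  rwa [le_antisymm hIle hle]

end Groth.Agent.H24.Flattening
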